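import Groth.Agent.BlowPn.Push
import Groth.Agent.PtPush.StrictIdeal
import Groth.Agent.PtPush.InterNum
import Groth.Agent.PtPush.Dim
import Groth.Agent.CBSurf.Enlarge
import Groth.Agent.ExtFund.Codim
import Groth.Agent.BlowAmp.Ample
import Groth.Agent.TMul.AmpleComp
import Groth.Agent.Nakai.CartierMul
import Groth.Agent.ThickSys.Sheaf
import Groth.Agent.S0927
import Groth.Agent.RegDual.Scheme
import Groth.Agent.SurfAdj.Basic
import Groth.Agent.PtPush.Tower

/-!
# Cohomology of powers of the exceptional ideal of a point blow-up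
-/

set_option autoImplicit false
set_option backward.isDefEq.respectTransparency false
set_option backward.isDefEq.respectTransparency.types false
set_option linter.style.haveILetI false
set_option linter.unusedSectionVars false
set_option maxHeartbeats 1000000

universe u

open CategoryTheory CategoryTheory.Limits AlgebraicGeometry TopologicalSpace Opposite
open Groth.Agent.QC (res)

noncomputable section

namespace Groth.Agent.PtBlowCoh

variable {X Y : Scheme.{u}} {x : X} (hx : PtBlow.IsRegPt X x) {b : Y ⟶ X}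

/-- the point is cut out by a regular pair -/
theorem isRegularImmersion_pt [IsNoetherian X] (hX : ∀ y : X, IsRegularLocalRing (X.presheaf.stalk y)) :
    RegImm.IsRegularImmersionOfCodim RegImm.Kind.regular 2 (PtBlow.pt hx).subschemeι := by
  let J := PtBlow.pt hx
  have hsub : ∀ z, J.subschemeι z = x := fun z => by
    have h : J.subschemeι z ∈ (J.support : Set X) := by
      rw [← Scheme.IdealSheafData.range_subschemeι]; exact ⟨z, rfl⟩
    rwa [PtBlow.coe_support_pt hx] at h
  haveI : Subsingleton J.subscheme := ⟨fun z z' =>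
    J.subschemeι.isClosedEmbedding.injective ((hsub z).trans (hsub z').symm)⟩
  refine ExtFund.isRegularImmersion_of_dim J.subschemeι 2 hX (fun z => ?_) fun z => ?_
  · have h0 : ringKrullDim (J.subscheme.presheaf.stalk z) = ((0 : ℕ) : WithBot ℕ∞) := by
      rw [ringKrullDim_stalk_eq_coheight, Order.coheight_eq_zero.2 fun y _ => (Subsingleton.elim y z).le]
      rfl
    have hd : ringKrullDim (X.presheaf.stalk (J.subschemeι.base z)) = ((2 : ℕ) : WithBot ℕ∞) := by
      show ringKrullDim (X.presheaf.stalk (J.subschemeι z)) = _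
      rw [hsub z, hx.dim]
      norm_cast
    rw [h0, hd]
    norm_cast
  · obtain ⟨W, -, hxW, -, -, -, a, c, hG⟩ := PtBlow.exists_goodNbhd x hx.closed hx.reg hx.dim ⊤ trivial
    refine ⟨W.1, [a, c], by show J.subschemeι z ∈ W.1; rw [hsub z]; exact hxW, W.2, rfl, ?_⟩
    rw [J.ker_subschemeι_app]
    refine hG.span.trans ?_
    simp [Ideal.ofList, Ideal.span_insert]
    rw [← Ideal.span_union]
    congr 1

theorem locData_pt [IsNoetherian X] (hX : ∀ y : X, IsRegularLocalRing (X.presheaf.stalk y)) :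
    BlowCech.LocData (PtBlow.pt hx) := by
  have h := BlowCech.locData_of_codim (PtBlow.pt hx).subschemeι 2 (by norm_num) (isRegularImmersion_pt hx hX)
  rwa [Scheme.IdealSheafData.ker_subschemeι] at h

/-- the direct image of a power of the exceptional ideal is the power of the point -/
theorem nonempty_push_pow [IsNoetherian X] (hX : ∀ y : X, IsRegularLocalRing (X.presheaf.stalk y))
    (hb : BlowUp.IsBlowUp b (PtBlow.pt hx)) (r : ℕ) :
    Nonempty ((Scheme.Modules.pushforward b).obj (ClSub.idealMod ((BlowUp.exceptional b (PtBlow.pt hx)) ^ r)) ≅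
      ClSub.idealMod ((PtBlow.pt hx) ^ r)) := by
  haveI := PtBlow.isProper_blowUp hx hb
  let D := (BlowUp.exceptional b (PtBlow.pt hx)) ^ r
  let ψ : Coh.structureModule X ⟶ (Scheme.Modules.pushforward b).obj (Coh.structureModule Y) :=
    SheafOfModules.unitToPushforwardObjUnit b.toRingCatSheafHom
  haveI : IsIso ψ := RelTilde.isIso_of_bijective_near _ fun y => PtPush.bijective_app_near hx hX hb y
  haveI : Mono ((Scheme.Modules.pushforward b).map (ClSub.idealModι D)) := by
    haveI := Adjunction.rightAdjoint_preservesLimits.{0, 0} (Scheme.Modules.pullbackPushforwardAdjunction b)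
    infer_instance
  let j : (Scheme.Modules.pushforward b).obj (ClSub.idealMod D) ⟶ Coh.structureModule X :=
    (Scheme.Modules.pushforward b).map (ClSub.idealModι D) ≫ inv ψ
  haveI : (ClSub.idealMod D).IsQuasicoherent := QC.isQCoh_idealMod D
  obtain ⟨K, θ, hθ⟩ := CBSurf.exists_idealMod_of_mono (QC.isQCoh_pushforward (M := ClSub.idealMod D) b) j
  -- the sections of `K` are the functions whose inverse image lies in `D`
  have hK : ∀ (V : X.affineOpens) (c : Γ(X, V.1)),
      c ∈ K.ideal V ↔ D.subschemeι.app (b ⁻¹ᵁ V.1) (b.app V.1 c) = 0 := fun V c => by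
    rw [← QC.mem_range_idealModι_affine K V c, ← QC.mem_range_idealModι D]
    constructor
    · rintro ⟨e, rfl⟩
      refine ⟨θ.inv.app V.1 e, ?_⟩
      have h1 : θ.inv ≫ (Scheme.Modules.pushforward b).map (ClSub.idealModι D) = ClSub.idealModι K ≫ ψ := by
        rw [Iso.inv_comp_eq, ← Category.assoc, hθ, Category.assoc, IsIso.inv_hom_id, Category.comp_id]
      exact congrArg (fun φ : ClSub.idealMod K ⟶ (Scheme.Modules.pushforward b).obj (Coh.structureModule Y) =>
        φ.app V.1 e) h1
    · rintro ⟨e, he⟩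
      refine ⟨θ.hom.app V.1 e, ?_⟩
      have h1 : (θ.hom ≫ ClSub.idealModι K) ≫ ψ = (Scheme.Modules.pushforward b).map (ClSub.idealModι D) := by
        rw [hθ, Category.assoc, IsIso.inv_hom_id, Category.comp_id]
      refine (ConcreteCategory.bijective_of_isIso (ψ.app V.1)).1 ?_
      refine Eq.trans ?_ he
      exact congrArg (fun φ : (Scheme.Modules.pushforward b).obj (ClSub.idealMod D) ⟶
        (Scheme.Modules.pushforward b).obj (Coh.structureModule Y) => φ.app V.1 e) h1
  have hKe : K = D.map b := by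
    refine Scheme.IdealSheafData.ext (funext fun V => Ideal.ext fun c => ?_)
    rw [hK, Scheme.IdealSheafData.map, Scheme.Hom.ker_apply, RingHom.mem_ker, Scheme.Hom.comp_app]
    rfl
  have hcomap : ((PtBlow.pt hx) ^ r).comap b = D := ThickSys.comap_pow _ _ _
  have hKm : K = (PtBlow.pt hx) ^ r := by
    refine le_antisymm (PtPush.le_pow_of_comap_le hx hb K r ?_) ?_
    · exact Scheme.IdealSheafData.le_map_iff_comap_le.1 hKe.le
    · rw [hKe, Scheme.IdealSheafData.le_map_iff_comap_le, hcomap]
  exact ⟨θ ≪≫ eqToIso (by rw [hKm])⟩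

theorem adapted_pow (r : ℕ) : BlowPn.Adapted (PtBlow.pt hx) ((PtBlow.pt hx) ^ r) := fun y =>
  ⟨⊤, trivial, r, fun W _ => by rw [Scheme.IdealSheafData.ideal_pow, Pi.pow_apply]⟩

/-- cohomology of a twisted power of the exceptional ideal -/
theorem nonempty_hh_pow {k : Type u} [Field k] [X.Over (Spec (CommRingCat.of k))] [Y.Over (Spec (CommRingCat.of k))]
    [IsProper (X ↘ Spec (CommRingCat.of k))] (hover : b ≫ (X ↘ Spec (CommRingCat.of k)) = Y ↘ Spec (CommRingCat.of k))
    (hX : ∀ y : X, IsRegularLocalRing (X.presheaf.stalk y))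
    (hb : BlowUp.IsBlowUp b (PtBlow.pt hx)) {G : X.Modules} (hG : PicF.IsInvertible G) (r i : ℕ) :
    Nonempty (Coh.HH Y (CohB1.tensorMod (ClSub.idealMod ((BlowUp.exceptional b (PtBlow.pt hx)) ^ r))
        ((Scheme.Modules.pullback b).obj G)) i ≃ₗ[k]
      Coh.HH X (CohB1.tensorMod (ClSub.idealMod ((PtBlow.pt hx) ^ r)) G) i) := by
  haveI := CurveRR.isNoetherian_of_proper k X
  haveI := PtBlow.isProper_blowUp hx hb
  have hA := BlowPn.directAcyclic_tw b hb hG (locData_pt hx hX) (adapted_pow hx r)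
  have hcomap : ((PtBlow.pt hx) ^ r).comap b = (BlowUp.exceptional b (PtBlow.pt hx)) ^ r := ThickSys.comap_pow _ _ _
  rw [← hcomap]
  haveI : (BlowPn.Tw b ((PtBlow.pt hx) ^ r) G).IsQuasicoherent := BlowPn.isQCoh_tw b _ hG
  obtain ⟨e⟩ := CohFinite.hh_push_linear k b hover _ hA i
  obtain ⟨θ⟩ := nonempty_push_pow hx hX hb r
  let w : (Scheme.Modules.pushforward b).obj (BlowPn.Tw b ((PtBlow.pt hx) ^ r) G) ≅
      CohB1.tensorMod (ClSub.idealMod ((PtBlow.pt hx) ^ r)) G :=
    (Scheme.Modules.pushforward b).mapIso (eqToIso (congrArg (fun D => CohB1.tensorMod (ClSub.idealMod D) ((Scheme.Modules.pullback b).obj G)) hcomap)) ≪≫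
      ((S0927.projIso b G (ResDesc.isFinLocFree_of_isInvertible hG)).app
        (ClSub.idealMod ((BlowUp.exceptional b (PtBlow.pt hx)) ^ r)) ≪≫
        (Scheme.Modules.pushforward b).mapIso (TMul.commIso _ _)).symm ≪≫
      TMul.commIso _ _ ≪≫ PicGrp.tensorModIso θ (Iso.refl G)
  exact ⟨e.trans (CohFinite.hhEquiv k w i)⟩

/-- a blow-up of a point of a projective scheme is projective -/
theorem exists_closedImmersion {k : Type u} [Field k] [X.Over (Spec (CommRingCat.of k))]
    [IsProper (X ↘ Spec (CommRingCat.of k))] {H : X.Modules} (hH : CohB1.IsAmple H)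
    {J : X.IdealSheafData} (hb : BlowUp.IsBlowUp b J) [IsProper b] :
    ∃ (n : ℕ) (ι : Y ⟶ CohB1.ProjSpace n k), IsClosedImmersion ι ∧
      ι ≫ CohB1.ProjSpace.toSpec n k = b ≫ (X ↘ Spec (CommRingCat.of k)) := by
  haveI := CurveRR.isNoetherian_of_proper k X
  obtain ⟨n, -, hn⟩ := TMul.exists_isRelAmple_comp b (X ↘ Spec (CommRingCat.of k))
    (L := ClSub.idealMod (J.comap b))
    ⟨inferInstance, fun V => BlowAmp.isAmple_restrict_exceptional hb (RZUnion.isFiniteType_of_isLocallyNoetherian _) V⟩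
    (TMul.isRelAmple_iff_isAmple.2 hH)
  obtain ⟨N, d, ρ, -, hρ, hρc, -⟩ := AmpleEmb.exists_closedImmersion_projSpace
    (b ≫ (X ↘ Spec (CommRingCat.of k))) (TMul.isRelAmple_iff_isAmple.1 (hn n le_rfl))
  exact ⟨N, ρ, hρc, hρ⟩

end Groth.Agent.PtBlowCoh

namespace Groth.Agent.PtBlowCoh

/-- a point blow-up of a surface is a surface -/
theorem dim_eq_two {k : Type u} [Field k] [IsAlgClosed k] {X Y : Scheme.{u}} [X.Over (Spec (CommRingCat.of k))]
    [IsProper (X ↘ Spec (CommRingCat.of k))] [IsIntegral X] [Smooth (X ↘ Spec (CommRingCat.of k))]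
    (hdim : topologicalKrullDim X = 2)
    {x : X} (hx : PtBlow.IsRegPt X x) {b : Y ⟶ X} (hb : BlowUp.IsBlowUp b (PtBlow.pt hx)) :
    topologicalKrullDim Y = 2 := by
  haveI := CurveRR.isNoetherian_of_proper k X
  have hX := fun y : X => SurfAdj.regular k hdim y
  have hc : ∀ Z ∈ irreducibleComponents (X : Type u), topologicalKrullDim Z = 2 := fun Z hZ => by
    rw [irreducibleComponents_eq_singleton, Set.mem_singleton_iff] at hZ
    subst hZ
    rw [IsHomeomorph.topologicalKrullDim_eq _ (Homeomorph.Set.univ _).isHomeomorph]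
    exact hdim
  refine le_antisymm ((PtPush.dim_blowUp k hc hX hx hb).trans_eq (by norm_cast)) ?_
  let V : X.Opens := (PtBlow.pt hx).support.compl
  haveI : JacobsonSpace X := LocallyOfFiniteType.jacobsonSpace (X ↘ Spec (CommRingCat.of k))
  obtain ⟨z, hzV, hzc⟩ := nonempty_inter_closedPoints (Z := (V : Set X))
    ⟨genericPoint X, W7Fib.genericPoint_notMem_support (PtPush.pt_ne_bot hx)⟩ V.2.isLocallyClosed
  haveI : IsIso (b ∣_ V) := BlowUpLib.isIso_restrict hb
  let y := (inv (b ∣_ V)) ⟨z, hzV⟩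
  have e1 := ringKrullDim_eq_of_ringEquiv ((b ⁻¹ᵁ V).stalkIso y).commRingCatIsoToRingEquiv
  have e3 := ringKrullDim_eq_of_ringEquiv (asIso ((b ∣_ V).stalkMap y)).commRingCatIsoToRingEquiv
  have hy : (b ∣_ V) y = (⟨z, hzV⟩ : V) := by
    show (inv (b ∣_ V) ≫ (b ∣_ V)) ⟨z, hzV⟩ = _
    rw [IsIso.inv_hom_id]
    rfl
  have key : ∀ w : V.toScheme, w = ⟨z, hzV⟩ → ringKrullDim (V.toScheme.presheaf.stalk w) = ringKrullDim (X.presheaf.stalk z) := by
    rintro w rfl
    exact ringKrullDim_eq_of_ringEquiv (V.stalkIso ⟨z, hzV⟩).commRingCatIsoToRingEquiv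
  calc (2 : WithBot ℕ∞) = ringKrullDim (X.presheaf.stalk z) := by
        rw [Intersect.dim_stalk_closed k (X := X) (show IsClosed ({z} : Set X) from hzc), hdim]
    _ = ringKrullDim (Y.presheaf.stalk y.1) := by rw [← key _ hy, e3, e1]
    _ ≤ topologicalKrullDim Y := RegDual.ringKrullDim_stalk_le_topologicalKrullDim _

end Groth.Agent.PtBlowCoh
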